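import Groth.Agent.GrpSchLib.AffineHopf
import Groth.Agent.SqZeroLib.Basic
import Groth.Prelude.Def_Red

/-!
# Rigidity of homomorphisms out of diagonalisable groups

A homomorphism from a diagonalisable group which is trivial modulo a square zero ideal is trivial: on an affine piece
its deviation from the unit is additive, and the group algebra has no non-zero primitive element.
-/

universe u

open CategoryTheory CategoryTheory.Limits MonoidalCategory CartesianMonoidalCategory MonObj AlgebraicGeometry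

namespace Groth.Agent.DiagDefLib

open GrpSchLib.AffineHopf

variable {R : Type u} [CommRing R] {M : Type} [AddCommGroup M]
  {X : Over (Spec (CommRingCat.of R))} [GrpObj X]

/-- The points of `D(M)` with values in `A[N]` given by an additive map `M → N`. -/
noncomputable def chi (A : Type u) [CommRing A] [Algebra R A] {N : Type} [AddCommGroup N] (r : M →+ N) :
    MonoidAlgebra R (Multiplicative M) →ₐ[R] MonoidAlgebra A (Multiplicative N) :=
  MonoidAlgebra.lift R (MonoidAlgebra A (Multiplicative N)) (Multiplicative M)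
    ((MonoidAlgebra.of A (Multiplicative N)).comp (AddMonoidHom.toMultiplicative r))

theorem chi_single (A : Type u) [CommRing A] [Algebra R A] {N : Type} [AddCommGroup N] (r : M →+ N)
    (m : Multiplicative M) :
    chi (R := R) A r (MonoidAlgebra.single m 1) = MonoidAlgebra.single (AddMonoidHom.toMultiplicative r m) 1 := by
  simp [chi, MonoidAlgebra.lift_single]

theorem chi_mul (A : Type u) [CommRing A] [Algebra R A] {N : Type} [AddCommGroup N] (r r' : M →+ N) :
    spMap (chi (R := R) A r) * spMap (chi (R := R) A r') = spMap (chi (R := R) A (r + r')) := by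
  rw [spMap_mul]
  congr 1
  refine MonoidAlgebra.algHom_ext (fun m => ?_) (by ext)
  simp [chi_single, MonoidAlgebra.single_mul_single]

/-- Change of the indexing group. -/
noncomputable def push (A : Type u) [CommRing A] [Algebra R A] {N N' : Type} [AddCommGroup N] [AddCommGroup N']
    (r : N →+ N') : MonoidAlgebra A (Multiplicative N) →ₐ[R] MonoidAlgebra A (Multiplicative N') :=
  (MonoidAlgebra.mapDomainAlgHom A A (AddMonoidHom.toMultiplicative r)).restrictScalars R

theorem push_comp_chi (A : Type u) [CommRing A] [Algebra R A] {N N' : Type} [AddCommGroup N] [AddCommGroup N']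
    (r : M →+ N) (r' : N →+ N') : (push A r').comp (chi (R := R) A r) = chi A (r'.comp r) := by
  refine MonoidAlgebra.algHom_ext (fun m => ?_) (by ext)
  simp [push, chi_single]

/-- An element with additive coproduct is zero. -/
theorem eq_zero_of_push_add (A : Type u) [CommRing A] [Algebra R A] (d : MonoidAlgebra A (Multiplicative M))
    (h : push (R := R) A ((AddMonoidHom.id M).prod (AddMonoidHom.id M)) d =
      push (R := R) A ((AddMonoidHom.id M).prod 0) d + push (R := R) A ((0 : M →+ M).prod (AddMonoidHom.id M)) d) :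
    d = 0 := by
  classical
  let i₁ : M → M × M := fun m => (m, 0)
  let i₂ : M → M × M := fun m => (0, m)
  let i₃ : M → M × M := fun m => (m, m)
  have hc : ∀ (r : M →+ M × M) (n : M × M),
      (push (R := R) A r d).coeff (Multiplicative.ofAdd n) =
        Finsupp.mapDomain (AddMonoidHom.toMultiplicative r) d.coeff (Multiplicative.ofAdd n) := fun r n => rfl
  refine MonoidAlgebra.coeff_injective (Finsupp.ext fun m => ?_)
  have hm := congrArg (fun e => e.coeff (Multiplicative.ofAdd (m.toAdd, m.toAdd))) h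
  simp only [MonoidAlgebra.coeff_add, Finsupp.add_apply, hc] at hm
  have hinj : ∀ (r : M →+ M × M), Function.Injective r → Function.Injective (AddMonoidHom.toMultiplicative r) :=
    fun r hr x y hxy => hr hxy
  have h3 : Finsupp.mapDomain (AddMonoidHom.toMultiplicative ((AddMonoidHom.id M).prod (AddMonoidHom.id M))) d.coeff
      (Multiplicative.ofAdd (m.toAdd, m.toAdd)) = d.coeff m :=
    Finsupp.mapDomain_apply (hinj _ fun x y hxy => congrArg Prod.fst hxy) _ m
  by_cases hm0 : m.toAdd = 0
  · have h1 : Finsupp.mapDomain (AddMonoidHom.toMultiplicative ((AddMonoidHom.id M).prod (0 : M →+ M))) d.coeff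
        (Multiplicative.ofAdd (m.toAdd, m.toAdd)) = d.coeff m := by
      have := Finsupp.mapDomain_apply (hinj ((AddMonoidHom.id M).prod (0 : M →+ M))
        fun x y hxy => congrArg Prod.fst hxy) d.coeff m
      rwa [show AddMonoidHom.toMultiplicative ((AddMonoidHom.id M).prod (0 : M →+ M)) m =
        Multiplicative.ofAdd (m.toAdd, m.toAdd) from congrArg Multiplicative.ofAdd (Prod.ext rfl hm0.symm)] at this
    have h2 : Finsupp.mapDomain (AddMonoidHom.toMultiplicative ((0 : M →+ M).prod (AddMonoidHom.id M))) d.coeff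
        (Multiplicative.ofAdd (m.toAdd, m.toAdd)) = d.coeff m := by
      have := Finsupp.mapDomain_apply (hinj ((0 : M →+ M).prod (AddMonoidHom.id M))
        fun x y hxy => congrArg Prod.snd hxy) d.coeff m
      rwa [show AddMonoidHom.toMultiplicative ((0 : M →+ M).prod (AddMonoidHom.id M)) m =
        Multiplicative.ofAdd (m.toAdd, m.toAdd) from congrArg Multiplicative.ofAdd (Prod.ext hm0.symm rfl)] at this
    rw [h3, h1, h2] at hm
    exact left_eq_add.mp hm
  · have h1 : Finsupp.mapDomain (AddMonoidHom.toMultiplicative ((AddMonoidHom.id M).prod (0 : M →+ M))) d.coeff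
        (Multiplicative.ofAdd (m.toAdd, m.toAdd)) = 0 :=
      Finsupp.mapDomain_notin_range _ _ (by
        rintro ⟨x, hx⟩
        exact hm0 (congrArg Prod.snd (congrArg Multiplicative.toAdd hx)).symm)
    have h2 : Finsupp.mapDomain (AddMonoidHom.toMultiplicative ((0 : M →+ M).prod (AddMonoidHom.id M))) d.coeff
        (Multiplicative.ofAdd (m.toAdd, m.toAdd)) = 0 :=
      Finsupp.mapDomain_notin_range _ _ (by
        rintro ⟨x, hx⟩
        exact hm0 (congrArg Prod.fst (congrArg Multiplicative.toAdd hx)).symm)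
    rw [h3, h1, h2, add_zero] at hm
    exact hm

theorem appTop_spMap_comp {A B : Type u} [CommRing A] [CommRing B] [Algebra R A] [Algebra R B] {T : Scheme.{u}}
    (r : B →ₐ[R] A) (g : Spec (CommRingCat.of B) ⟶ T) (x : Γ(T, ⊤)) :
    (Scheme.ΓSpecIso (CommRingCat.of A)).hom.hom (((spMap r).left ≫ g).appTop.hom x) =
      r ((Scheme.ΓSpecIso (CommRingCat.of B)).hom.hom (g.appTop.hom x)) := by
  have e := Scheme.ΓSpecIso_naturality (CommRingCat.ofHom r.toRingHom)
  have : ((spMap r).left ≫ g).appTop ≫ (Scheme.ΓSpecIso (CommRingCat.of A)).hom =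
      g.appTop ≫ (Scheme.ΓSpecIso (CommRingCat.of B)).hom ≫ CommRingCat.ofHom r.toRingHom := by
    rw [Scheme.Hom.comp_appTop, Category.assoc, ← e]
    rfl
  exact congrArg (fun φ => φ.hom x) this

variable (f : Red.diag R M ⟶ X) [IsMonHom f]

/-- The rigidity over a piece where the unit lands in an affine piece. -/
theorem comp_eq_one_of_affine (A : Type u) [CommRing A] [Algebra R A] (J : Ideal A) (hJ : J * J = ⊥)
    (hcong : ∀ (B : Type u) [CommRing B] [Algebra R B] (ψ : A →ₐ[R] B), (∀ j ∈ J, ψ j = 0) →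
      ∀ χ : MonoidAlgebra R (Multiplicative M) →ₐ[R] B, spMap χ ≫ f = (1 : sp R B ⟶ X))
    (W : X.left.Opens) (hW : IsAffineOpen W) (V : (X ⊗ X).left.Opens) (hV : IsAffineOpen V)
    (h1 : V ≤ (fst X X).left ⁻¹ᵁ W) (h2 : V ≤ (snd X X).left ⁻¹ᵁ W) (hm : V ≤ μ[X].left ⁻¹ᵁ W)
    (hd : ∀ s, (CartesianMonoidalCategory.lift (1 : sp R A ⟶ X) 1).left.base s ∈ V) :
    spMap (chi (R := R) A (AddMonoidHom.id M)) ≫ f = 1 := by
  let M₂ := M × M
  let A₂ := MonoidAlgebra A (Multiplicative M₂)
  let A₁ := MonoidAlgebra A (Multiplicative M)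
  let P := sp R A₂
  haveI : IsAffine P.left := inferInstanceAs (IsAffine (Spec (CommRingCat.of A₂)))
  let I : Ideal Γ(P.left, ⊤) :=
    (J.map (algebraMap A A₂)).map (Scheme.ΓSpecIso (CommRingCat.of A₂)).inv.hom
  have hI : I * I = ⊥ := by rw [← Ideal.map_mul, ← Ideal.map_mul, hJ, Ideal.map_bot, Ideal.map_bot]
  let hA : sp R A₂ ⟶ sp R A := spMap (IsScalarTower.toAlgHom R A A₂)
  have hdP : ∀ u, (𝟙 P.left ≫ (CartesianMonoidalCategory.lift (1 : P ⟶ X) 1).left).base u ∈ V := fun u => by
    rw [Category.id_comp, show CartesianMonoidalCategory.lift (1 : P ⟶ X) 1 =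
      hA ≫ CartesianMonoidalCategory.lift (1 : sp R A ⟶ X) 1 by rw [comp_lift, comp_one]]
    exact hd _
  have hI' : ∀ (r : M →+ M₂), SqZeroLib.inclusion I ≫ 𝟙 P.left ≫ (spMap (chi (R := R) A r) ≫ f).left =
      SqZeroLib.inclusion I ≫ 𝟙 P.left ≫ (1 : P ⟶ X).left := by
    intro r
    let B := Γ(P.left, ⊤) ⧸ I
    let π₀ : A₂ →+* B := (Ideal.Quotient.mk I).comp (Scheme.ΓSpecIso (CommRingCat.of A₂)).inv.hom
    letI : Algebra R B := (π₀.comp (algebraMap R A₂)).toAlgebra
    let π : A₂ →ₐ[R] B := { π₀ with commutes' := fun _ => rfl }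
    have hinc : SqZeroLib.inclusion I = (spMap π).left := by
      show Spec.map _ ≫ (Spec (CommRingCat.of A₂)).isoSpec.inv = Spec.map _
      rw [Scheme.isoSpec_Spec_inv, ← Spec.map_comp]
      rfl
    have := hcong B (π.comp (IsScalarTower.toAlgHom R A A₂)) (fun j hj => Ideal.Quotient.eq_zero_iff_mem.mpr
      (Ideal.mem_map_of_mem _ (Ideal.mem_map_of_mem _ hj))) (π.comp (chi (R := R) A r))
    have hh : spMap π ≫ spMap (chi (R := R) A r) ≫ f = spMap π ≫ (1 : P ⟶ X) := by
      rw [← Category.assoc, spMap_comp, comp_one, this]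
    rw [hinc, Category.id_comp, Category.id_comp]
    exact congrArg (fun g => Over.Hom.left g) hh
  let r₁ : M →+ M₂ := (AddMonoidHom.id M).prod 0
  let r₂ : M →+ M₂ := (0 : M →+ M).prod (AddMonoidHom.id M)
  let r₃ : M →+ M₂ := (AddMonoidHom.id M).prod (AddMonoidHom.id M)
  have hr : r₁ + r₂ = r₃ := by
    refine AddMonoidHom.ext fun m => ?_
    show ((m + 0, 0 + m) : M × M) = (m, m)
    simp
  obtain ⟨gx, gy, e, gxy, hgx, hgy, he, hgxy, hs⟩ := SqZeroLib.isSum_mul I X hI (𝟙 P.left) W hW V hV h1 h2 hm hdP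
    (hI' r₁) (hI' r₂)
  -- lifts on one factor
  let P₁ := sp R A₁
  haveI : IsAffine P₁.left := inferInstanceAs (IsAffine (Spec (CommRingCat.of A₁)))
  let q : P₁ ⟶ Red.diag R M := spMap (chi (R := R) A (AddMonoidHom.id M))
  have hfac : ∀ r : M →+ M₂, spMap (push (R := R) A r) ≫ q = spMap (chi (R := R) A r) := fun r => by
    rw [spMap_comp, push_comp_chi]
    rfl
  let I₁ : Ideal Γ(P₁.left, ⊤) := (J.map (algebraMap A A₁)).map (Scheme.ΓSpecIso (CommRingCat.of A₁)).inv.hom
  have hI₁ : I₁ * I₁ = ⊥ := by rw [← Ideal.map_mul, ← Ideal.map_mul, hJ, Ideal.map_bot, Ideal.map_bot]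
  have hI₁' : SqZeroLib.inclusion I₁ ≫ (q ≫ f).left = SqZeroLib.inclusion I₁ ≫ (1 : P₁ ⟶ X).left := by
    let B := Γ(P₁.left, ⊤) ⧸ I₁
    let π₀ : A₁ →+* B := (Ideal.Quotient.mk I₁).comp (Scheme.ΓSpecIso (CommRingCat.of A₁)).inv.hom
    letI : Algebra R B := (π₀.comp (algebraMap R A₁)).toAlgebra
    let π : A₁ →ₐ[R] B := { π₀ with commutes' := fun _ => rfl }
    have hinc : SqZeroLib.inclusion I₁ = (spMap π).left := by
      show Spec.map _ ≫ (Spec (CommRingCat.of A₁)).isoSpec.inv = Spec.map _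
      rw [Scheme.isoSpec_Spec_inv, ← Spec.map_comp]
      rfl
    have := hcong B (π.comp (IsScalarTower.toAlgHom R A A₁)) (fun j hj => Ideal.Quotient.eq_zero_iff_mem.mpr
      (Ideal.mem_map_of_mem _ (Ideal.mem_map_of_mem _ hj))) (π.comp (chi (R := R) A (AddMonoidHom.id M)))
    have hh : spMap π ≫ q ≫ f = spMap π ≫ (1 : P₁ ⟶ X) := by
      rw [← Category.assoc, spMap_comp, comp_one, this]
    rw [hinc]
    exact congrArg (fun g => Over.Hom.left g) hh
  have hone : ∀ u, (1 : P₁ ⟶ X).left.base u ∈ W := fun u => by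
    have := h1 (hd ((spMap (IsScalarTower.toAlgHom R A A₁)).left.base u))
    rw [show (1 : P₁ ⟶ X) = spMap (IsScalarTower.toAlgHom R A A₁) ≫ (1 : sp R A ⟶ X) from (comp_one _).symm,
      Over.comp_left, Scheme.Hom.comp_apply]
    have e : (1 : sp R A ⟶ X).left =
        (CartesianMonoidalCategory.lift (1 : sp R A ⟶ X) 1).left ≫ (fst X X).left := by
      rw [← Over.comp_left, lift_fst]
    rw [e, Scheme.Hom.comp_apply]
    exact this
  obtain ⟨g₀, hg₀⟩ := SqZeroLib.exists_lift I₁ hI₁ W hI₁' hone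
  obtain ⟨e₀, he₀⟩ := SqZeroLib.exists_lift I₁ hI₁ W (a := (1 : P₁ ⟶ X).left) rfl hone
  have : IsAffine W := hW
  have hx : gx = (spMap (push (R := R) A r₁)).left ≫ g₀ := by
    rw [← cancel_mono W.ι, Category.assoc, hg₀, hgx, Category.id_comp, ← Over.comp_left, ← Category.assoc, hfac]
  have hy : gy = (spMap (push (R := R) A r₂)).left ≫ g₀ := by
    rw [← cancel_mono W.ι, Category.assoc, hg₀, hgy, Category.id_comp, ← Over.comp_left, ← Category.assoc, hfac]
  have hxy : gxy = (spMap (push (R := R) A r₃)).left ≫ g₀ := by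
    rw [← cancel_mono W.ι, Category.assoc, hg₀, hgxy, Category.id_comp, ← Over.comp_left, ← Category.assoc, hfac,
      ← hr, ← chi_mul, mul_comp]
  have he' : ∀ r : M →+ M₂, e = (spMap (push (R := R) A r)).left ≫ e₀ := fun r => by
    rw [← cancel_mono W.ι, Category.assoc, he₀, he, Category.id_comp, ← Over.comp_left, comp_one]
  have hge : g₀ = e₀ := by
    refine ext_of_isAffine (CommRingCat.hom_ext (RingHom.ext fun x => ?_))
    let ν : ∀ {A' : Type u} [CommRing A'], (Spec (CommRingCat.of A') ⟶ (W : Scheme)) → A' := fun {A'} _ g =>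
      (Scheme.ΓSpecIso (CommRingCat.of A')).hom.hom (g.appTop.hom x)
    have hd0 : ν g₀ - ν e₀ = 0 := by
      refine eq_zero_of_push_add (R := R) A _ ?_
      have hs' : ν gxy = ν gx + ν gy - ν e := by
        show (Scheme.ΓSpecIso (CommRingCat.of A₂)).hom.hom (gxy.appTop.hom x) = _
        refine (congrArg (Scheme.ΓSpecIso (CommRingCat.of A₂)).hom.hom (hs x)).trans ?_
        exact (map_sub _ _ _).trans (congrArg (· - _) (map_add _ _ _))
      have k : ∀ (r : M →+ M₂) (g : Spec (CommRingCat.of A₁) ⟶ (W : Scheme)),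
          ν ((spMap (push (R := R) A r)).left ≫ g) = push (R := R) A r (ν g) := fun r g => appTop_spMap_comp _ g x
      have e3 : push (R := R) A r₃ (ν e₀) = ν e := (k r₃ e₀).symm.trans (congrArg ν (he' r₃).symm)
      have e1 : push (R := R) A r₁ (ν e₀) = ν e := (k r₁ e₀).symm.trans (congrArg ν (he' r₁).symm)
      have e2 : push (R := R) A r₂ (ν e₀) = ν e := (k r₂ e₀).symm.trans (congrArg ν (he' r₂).symm)
      have x3 : ν gxy = push (R := R) A r₃ (ν g₀) := (congrArg ν hxy).trans (k r₃ g₀)
      have x1 : ν gx = push (R := R) A r₁ (ν g₀) := (congrArg ν hx).trans (k r₁ g₀)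
      have x2 : ν gy = push (R := R) A r₂ (ν g₀) := (congrArg ν hy).trans (k r₂ g₀)
      rw [x3, x1, x2] at hs'
      rw [map_sub, map_sub, map_sub, hs', e3, e1, e2]
      abel
    exact (Scheme.ΓSpecIso (CommRingCat.of A₁)).commRingCatIsoToRingEquiv.injective (sub_eq_zero.mp hd0)
  apply Over.OverMorphism.ext
  show (q ≫ f).left = (1 : P₁ ⟶ X).left
  rw [← hg₀, ← he₀, hge]

/-- The rigidity over an arbitrary base algebra. -/
theorem comp_eq_one (A : Type u) [CommRing A] [Algebra R A] (J : Ideal A) (hJ : J * J = ⊥)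
    (hcong : ∀ (B : Type u) [CommRing B] [Algebra R B] (ψ : A →ₐ[R] B), (∀ j ∈ J, ψ j = 0) →
      ∀ χ : MonoidAlgebra R (Multiplicative M) →ₐ[R] B, spMap χ ≫ f = (1 : sp R B ⟶ X)) :
    spMap (chi (R := R) A (AddMonoidHom.id M)) ≫ f = 1 := by
  have hloc : ∀ p : PrimeSpectrum A, ∃ g : A, g ∉ p.asIdeal ∧
      spMap (chi (R := R) (Localization.Away g) (AddMonoidHom.id M)) ≫ f = 1 := by
    intro p
    obtain ⟨W, hW, hW0, -⟩ := exists_isAffineOpen_mem_and_subset (X := X.left)
      (x := (1 : sp R A ⟶ X).left.base p) (U := ⊤) trivial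
    let L := CartesianMonoidalCategory.lift (1 : sp R A ⟶ X) (1 : sp R A ⟶ X)
    have hyV : L.left.base p ∈ (fst X X).left ⁻¹ᵁ W ⊓ (snd X X).left ⁻¹ᵁ W ⊓ μ[X].left ⁻¹ᵁ W := by
      refine ⟨⟨?_, ?_⟩, ?_⟩
      · show (fst X X).left.base _ ∈ W; rw [← Scheme.Hom.comp_apply, ← Over.comp_left, lift_fst]; exact hW0
      · show (snd X X).left.base _ ∈ W; rw [← Scheme.Hom.comp_apply, ← Over.comp_left, lift_snd]; exact hW0
      · show μ[X].left.base _ ∈ W
        rw [← Scheme.Hom.comp_apply, ← Over.comp_left, ← Hom.mul_def, _root_.one_mul]; exact hW0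
    obtain ⟨V, hV, hpV, hVle⟩ := exists_isAffineOpen_mem_and_subset hyV
    obtain ⟨_, ⟨g, rfl⟩, hpg, hsub⟩ :=
      PrimeSpectrum.isTopologicalBasis_basic_opens.exists_subset_of_mem_open (show p ∈ ⇑L.left.base ⁻¹' V from hpV)
        (V.isOpen.preimage L.left.base.hom.continuous)
    refine ⟨g, hpg, comp_eq_one_of_affine f (Localization.Away g) (J.map (algebraMap A _)) ?_ ?_ W hW V hV
      (hVle.trans (inf_le_left.trans inf_le_left)) (hVle.trans (inf_le_left.trans inf_le_right))
      (hVle.trans inf_le_right) ?_⟩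
    · rw [← Ideal.map_mul, hJ, Ideal.map_bot]
    · intro B _ _ ψ hψ χ
      exact hcong B (ψ.comp (IsScalarTower.toAlgHom R A _)) (fun j hj => hψ _ (Ideal.mem_map_of_mem _ hj)) χ
    · intro s
      rw [show CartesianMonoidalCategory.lift (1 : sp R (Localization.Away g) ⟶ X) 1 =
        spMap (IsScalarTower.toAlgHom R A (Localization.Away g)) ≫ L by rw [comp_lift, comp_one]]
      refine hsub (?_ : PrimeSpectrum.comap (algebraMap A (Localization.Away g)) s ∈ PrimeSpectrum.basicOpen g)
      rw [← SetLike.mem_coe, ← PrimeSpectrum.localization_away_comap_range (Localization.Away g) g]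
      exact ⟨s, rfl⟩
  choose g hg hgeq using hloc
  let A₁ := MonoidAlgebra A (Multiplicative M)
  let γ : PrimeSpectrum A → A₁ := fun p => algebraMap A A₁ (g p)
  have hspan : Ideal.span (Set.range γ) = ⊤ := by
    have : Ideal.span (Set.range g) = ⊤ := by
      by_contra hne
      obtain ⟨m, hm, hle⟩ := Ideal.exists_le_maximal _ hne
      exact hg ⟨m, hm.isPrime⟩ (hle (Ideal.subset_span ⟨_, rfl⟩))
    rw [show Set.range γ = algebraMap A A₁ '' Set.range g from Set.range_comp _ g, ← Ideal.map_span, this,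
      Ideal.map_top]
  apply Over.OverMorphism.ext
  refine (Scheme.affineOpenCoverOfSpanRangeEqTop (R := CommRingCat.of A₁) γ hspan).openCover.hom_ext _ _ fun p => ?_
  let L := Localization.Away (γ p)
  let Ag := Localization.Away (g p)
  let l : Ag →ₐ[A] L := ⟨IsLocalization.Away.lift (g p) (g := (algebraMap A₁ L).comp (algebraMap A A₁))
    (IsLocalization.Away.algebraMap_isUnit (γ p)), fun a => IsLocalization.Away.lift_eq _ _ _⟩
  letI : Algebra Ag L := l.toRingHom.toAlgebra
  haveI : IsScalarTower R Ag L := IsScalarTower.of_algebraMap_eq fun r => ((l.restrictScalars R).commutes r).symm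
  let lam : MonoidAlgebra Ag (Multiplicative M) →ₐ[R] L :=
    (MonoidAlgebra.lift Ag L (Multiplicative M)
      ((algebraMap A₁ L).toMonoidHom.comp (MonoidAlgebra.of A (Multiplicative M)))).restrictScalars R
  have hlam : (IsScalarTower.toAlgHom R A₁ L).comp (chi (R := R) A (AddMonoidHom.id M)) =
      lam.comp (chi (R := R) Ag (AddMonoidHom.id M)) := by
    refine MonoidAlgebra.algHom_ext (fun m => ?_) (by ext)
    simp only [AlgHom.comp_apply]
    rw [chi_single, chi_single]
    simp only [lam, AlgHom.restrictScalars_apply]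
    rw [MonoidAlgebra.lift_single, one_smul]
    rfl
  have h : spMap (IsScalarTower.toAlgHom R A₁ L) ≫ spMap (chi (R := R) A (AddMonoidHom.id M)) ≫ f =
      spMap (IsScalarTower.toAlgHom R A₁ L) ≫ (1 : sp R A₁ ⟶ X) := by
    rw [← Category.assoc, spMap_comp, hlam, ← spMap_comp, Category.assoc, hgeq, comp_one, comp_one]
  exact congrArg (fun e => Over.Hom.left e) h

end Groth.Agent.DiagDefLib
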